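import Groth.Prelude.Def_AlgGrp
import Groth.Agent.Lib.AlgGrpBasic19.Basic
import Mathlib.CategoryTheory.Monoidal.Cartesian.Over
import Mathlib.CategoryTheory.Monoidal.Grp

/-!
# Base change of actions; translations
-/

set_option autoImplicit false
universe u

open CategoryTheory CategoryTheory.Limits MonoidalCategory CartesianMonoidalCategory MonObj AlgebraicGeometry
open CategoryTheory.Functor.LaxMonoidal

namespace Groth.Agent.OrbitTop19

open scoped CategoryTheory.Obj

section map

variable {S S' : Scheme.{u}} (F : Over S ⥤ Over S') [F.Monoidal] {G X Y : Over S} [GrpObj G]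

/-- The image of an action under a monoidal functor. -/
noncomputable def mapAction (a : AlgGrp.Action G X) :
    @AlgGrp.Action S' (F.obj G) (F.obj X) Functor.grpObjObj :=
  letI : GrpObj (F.obj G) := Functor.grpObjObj
  { act := Functor.LaxMonoidal.μ F G X ≫ F.map a.act
    one_act := by
      change (ε F ≫ F.map η[G]) ▷ F.obj X ≫ Functor.LaxMonoidal.μ F G X ≫ F.map a.act = _
      rw [MonoidalCategory.comp_whiskerRight, Category.assoc, μ_natural_left_assoc, ← F.map_comp,
        a.one_act, ← left_unitality]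
    mul_act := by
      change (Functor.LaxMonoidal.μ F G G ≫ F.map μ[G]) ▷ F.obj X ≫ Functor.LaxMonoidal.μ F G X ≫ F.map a.act = _
      rw [MonoidalCategory.comp_whiskerRight, Category.assoc, μ_natural_left_assoc, ← F.map_comp,
        a.mul_act, F.map_comp, F.map_comp, MonoidalCategory.whiskerLeft_comp, Category.assoc,
        μ_natural_right_assoc, associativity_assoc] }

theorem map_orbitMap (a : AlgGrp.Action G X) (x : 𝟙_ (Over S) ⟶ X) :
    letI : GrpObj (F.obj G) := Functor.grpObjObj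
    (mapAction F a).orbitMap (ε F ≫ F.map x) = F.map (a.orbitMap x) := by
  letI : GrpObj (F.obj G) := Functor.grpObjObj
  show lift (𝟙 (F.obj G)) (toUnit (F.obj G) ≫ ε F ≫ F.map x) ≫ Functor.LaxMonoidal.μ F G X ≫ F.map a.act =
    F.map (lift (𝟙 G) (toUnit G ≫ x) ≫ a.act)
  rw [← Category.assoc (toUnit (F.obj G)), Functor.Monoidal.toUnit_ε, ← F.map_comp, ← F.map_id,
    Functor.Monoidal.lift_μ_assoc, ← F.map_comp]

end map

section translate

variable {S : Scheme.{u}} {G X Y : Over S} [GrpObj G]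

/-- Translation by a point of the group. -/
noncomputable def tr (a : AlgGrp.Action G X) (γ : 𝟙_ (Over S) ⟶ G) : X ⟶ X :=
  lift (toUnit X ≫ γ) (𝟙 X) ≫ a.act

theorem comp_tr {T : Over S} (a : AlgGrp.Action G X) (γ : 𝟙_ (Over S) ⟶ G) (x : T ⟶ X) :
    x ≫ tr a γ = lift (toUnit T ≫ γ) x ≫ a.act := by
  rw [tr, ← Category.assoc, comp_lift, Category.comp_id, ← Category.assoc, comp_toUnit]

theorem tr_inv (a : AlgGrp.Action G X) (γ : 𝟙_ (Over S) ⟶ G) : tr a γ ≫ tr a γ⁻¹ = 𝟙 X := by
  rw [comp_tr, tr, ← AlgGrpBasic19.act_mul, GrpObj.comp_inv, inv_mul_cancel, AlgGrpBasic19.act_one]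

theorem inv_tr (a : AlgGrp.Action G X) (γ : 𝟙_ (Over S) ⟶ G) : tr a γ⁻¹ ≫ tr a γ = 𝟙 X := by
  simpa using tr_inv a γ⁻¹

/-- Translations as automorphisms. -/
noncomputable def trIso (a : AlgGrp.Action G X) (γ : 𝟙_ (Over S) ⟶ G) : X ≅ X where
  hom := tr a γ
  inv := tr a γ⁻¹
  hom_inv_id := tr_inv a γ
  inv_hom_id := inv_tr a γ

theorem tr_equivariant {a : AlgGrp.Action G X} {b : AlgGrp.Action G Y} {f : X ⟶ Y}
    (hf : (G ◁ f) ≫ b.act = a.act ≫ f) (γ : 𝟙_ (Over S) ⟶ G) : tr a γ ≫ f = f ≫ tr b γ := by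
  rw [comp_tr, tr, Category.assoc, ← hf, ← Category.assoc, lift_whiskerLeft, Category.id_comp]

/-- A group acting on itself by left multiplication. -/
noncomputable def mulAction (G : Over S) [GrpObj G] : AlgGrp.Action G G where
  act := μ[G]
  one_act := MonObj.one_mul G
  mul_act := MonObj.mul_assoc G

theorem orbitMap_equivariant (a : AlgGrp.Action G X) (x : 𝟙_ (Over S) ⟶ X) :
    (G ◁ a.orbitMap x) ≫ a.act = (mulAction G).act ≫ a.orbitMap x := by
  apply Eq.symm
  show μ[G] ≫ lift (𝟙 G) (toUnit G ≫ x) ≫ a.act = (G ◁ (lift (𝟙 G) (toUnit G ≫ x) ≫ a.act)) ≫ a.act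
  have h1 : μ[G] = fst G G * snd G G := by rw [Hom.mul_def, lift_fst_snd, Category.id_comp]
  rw [← Category.assoc, comp_lift, Category.comp_id, ← Category.assoc μ[G], comp_toUnit, h1,
    AlgGrpBasic19.act_mul]
  congr 1
  apply CartesianMonoidalCategory.hom_ext
  · simp
  · rw [lift_snd, whiskerLeft_snd, ← Category.assoc (snd G G), comp_lift, Category.comp_id,
      ← Category.assoc, comp_toUnit]

end translate

end Groth.Agent.OrbitTop19
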