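import Groth.Agent.Lib.OrbitTop19.Closed
import Mathlib.AlgebraicGeometry.PullbackCarrier
import Mathlib.AlgebraicGeometry.Morphisms.UniversallyOpen

/-!
# Orbits are locally closed
-/

set_option autoImplicit false
set_option linter.style.haveILetI false
set_option backward.isDefEq.respectTransparency.types false
universe u

open CategoryTheory CategoryTheory.Limits MonoidalCategory CartesianMonoidalCategory MonObj AlgebraicGeometry Topology
open CategoryTheory.Functor.LaxMonoidal

namespace Groth.Agent.OrbitTop19

/-- The range of a base changed morphism. -/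
theorem range_pullback_map {S S' : Scheme.{u}} (φ : S' ⟶ S) {X Y : Over S} (f : X ⟶ Y) :
    Set.range ((Over.pullback φ).map f).left = pullback.fst Y.hom φ ⁻¹' Set.range f.left := by
  refine Set.Subset.antisymm ?_ fun z hz => ?_
  · rintro _ ⟨w, rfl⟩
    refine ⟨pullback.fst X.hom φ w, ?_⟩
    have e : ((Over.pullback φ).map f).left ≫ pullback.fst Y.hom φ = pullback.fst X.hom φ ≫ f.left := by
      exact pullback.lift_fst _ _ _
    rw [← Scheme.Hom.comp_apply, ← e]
    rfl
  · obtain ⟨x, hx⟩ := hz
    have e : IsPullback (pullback.fst X.hom φ) ((Over.pullback φ).map f).left f.left (pullback.fst Y.hom φ) := by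
      refine IsPullback.of_bot (v₂₁ := pullback.snd Y.hom φ) (v₂₂ := Y.hom) (h₃₁ := φ) ?_ ?_ ?_
      · have e2 : ((Over.pullback φ).map f).left ≫ pullback.snd Y.hom φ = pullback.snd X.hom φ :=
          pullback.lift_snd _ _ _
        rw [e2, Over.w f]
        exact IsPullback.of_hasPullback X.hom φ
      · exact (pullback.lift_fst _ _ _).symm
      · exact IsPullback.of_hasPullback Y.hom φ
    obtain ⟨w, hw1, hw2⟩ := Scheme.Pullback.exists_preimage_pullback x z hx
    refine ⟨e.isoPullback.inv w, ?_⟩
    rw [← Scheme.Hom.comp_apply, e.isoPullback_inv_snd]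
    exact hw2

/-- Orbits are locally closed. -/
theorem isLocallyClosed_range_orbitMap {k : Type u} [Field k] {G X : Over (Spec (CommRingCat.of k))} [GrpObj G]
    [LocallyOfFiniteType G.hom] [QuasiCompact G.hom] [LocallyOfFiniteType X.hom] (a : AlgGrp.Action G X)
    (x : 𝟙_ (Over (Spec (CommRingCat.of k))) ⟶ X) : IsLocallyClosed (Set.range (a.orbitMap x).left) := by
  let φ := Spec.map (CommRingCat.ofHom (algebraMap k (AlgebraicClosure k)))
  let F := Over.pullback φ
  letI : GrpObj (F.obj G) := Functor.grpObjObj
  haveI : LocallyOfFiniteType (F.obj G).hom := inferInstanceAs (LocallyOfFiniteType (pullback.snd G.hom φ))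
  haveI : QuasiCompact (F.obj G).hom := inferInstanceAs (QuasiCompact (pullback.snd G.hom φ))
  haveI : LocallyOfFiniteType (F.obj X).hom := inferInstanceAs (LocallyOfFiniteType (pullback.snd X.hom φ))
  let a' := mapAction F a
  let x' := ε F ≫ F.map x
  haveI : QuasiSeparated (F.obj X).hom := by
    haveI := LocallyOfFiniteType.isLocallyNoetherian (F.obj X).hom
    rw [quasiSeparated_iff_quasiSeparatedSpace]
    infer_instance
  haveI : QuasiCompact (a'.orbitMap x').left := by
    haveI : QuasiCompact ((a'.orbitMap x').left ≫ (F.obj X).hom) := by rw [Over.w]; infer_instance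
    exact QuasiCompact.of_comp _ (F.obj X).hom
  have h := isLocallyClosed_range (f := a'.orbitMap x') (a := mulAction (F.obj G)) (b := a')
    isTransitive_mul (orbitMap_equivariant a' x')
  rw [show a'.orbitMap x' = F.map (a.orbitMap x) from map_orbitMap F a x, range_pullback_map] at h
  let π := pullback.fst X.hom φ
  have hπo : IsOpenMap π := π.isOpenMap
  have hπq : IsQuotientMap π := hπo.isQuotientMap π.continuous π.surjective
  rw [isLocallyClosed_iff_isOpen_coborder] at h ⊢
  rw [coborder_preimage hπo π.continuous] at h
  exact hπq.isOpen_preimage.1 h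

end Groth.Agent.OrbitTop19
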