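import Groth.Agent.Lib.OrbitTop19.Descend
import Groth.Agent.Lib.RedSep.Basic
import Groth.Agent.Lib.SmoothReg17.Basic
import Mathlib.AlgebraicGeometry.Morphisms.SchemeTheoreticallyDominant
import Mathlib.AlgebraicGeometry.Morphisms.FlatDescent

/-!
# Reduced orbits of smooth groups are smooth
-/

set_option autoImplicit false
set_option linter.style.haveILetI false
set_option backward.isDefEq.respectTransparency.types false
universe u

open CategoryTheory CategoryTheory.Limits MonoidalCategory CartesianMonoidalCategory MonObj AlgebraicGeometry Topology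
open CategoryTheory.Functor.LaxMonoidal

namespace Groth.Agent.OrbitTop19

theorem exists_lift_immersion {W X Z : Scheme.{u}} [IsReduced W] (h : W ⟶ X) (j : Z ⟶ X) [IsImmersion j]
    (hr : Set.range h ⊆ Set.range j) : ∃ l : W ⟶ Z, l ≫ j = h := by
  let U : X.Opens := ⟨coborder (Set.range j), j.isLocallyClosed_range.isOpen_coborder⟩
  obtain ⟨j', hj', hji, hjr⟩ := RedSepLib.exists_closedImmersion_lift j U subset_coborder
    isClosed_preimage_val_coborder
  have hU : Set.range h ⊆ Set.range U.ι := by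
    rw [U.range_ι]; exact hr.trans subset_coborder
  let h' := IsOpenImmersion.lift U.ι h hU
  have hh : h' ≫ U.ι = h := IsOpenImmersion.lift_fac _ _ _
  obtain ⟨l, hl⟩ := RedSepLib.exists_lift_of_range_subset h' j' (by
    rintro _ ⟨w, rfl⟩
    rw [hjr]
    show U.ι (h' w) ∈ Set.range j
    rw [← Scheme.Hom.comp_apply, hh]
    exact hr ⟨w, rfl⟩)
  exact ⟨l, by rw [← hji, ← Category.assoc, hl, hh]⟩

theorem isReduced_of_smooth {k : Type u} [Field k] {X : Scheme.{u}} (f : X ⟶ Spec (CommRingCat.of k)) [Smooth f] :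
    IsReduced X := by
  haveI : ∀ z, _root_.IsReduced (X.presheaf.stalk z) := fun z =>
    haveI := SmoothReg17.isDomain_stalk f z
    inferInstance
  exact isReduced_of_isReduced_stalk X

variable {K : Type u} [Field K] [IsAlgClosed K] {G X O : Over (Spec (CommRingCat.of K))} [GrpObj G]

/-- A reduced subscheme supported on an orbit is smooth over an algebraically closed field. -/
theorem smooth_of_isAlgClosed [LocallyOfFiniteType G.hom] [LocallyOfFiniteType X.hom] (a : AlgGrp.Action G X)
    (x : 𝟙_ (Over (Spec (CommRingCat.of K))) ⟶ X) (i : O ⟶ X) [IsImmersion i.left] [IsReduced O.left]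
    (hO : Set.range i.left = Set.range (a.orbitMap x).left) : Smooth O.hom := by
  haveI : LocallyOfFiniteType (i.left ≫ X.hom) := inferInstance
  haveI : LocallyOfFiniteType O.hom := by rw [← Over.w i]; infer_instance
  haveI : IsLocallyNoetherian O.left := LocallyOfFiniteType.isLocallyNoetherian O.hom
  haveI : IsLocallyNoetherian (Spec (CommRingCat.of K)) := inferInstance
  haveI := VarDim.locallyOfFinitePresentation_of_locallyNoetherian O.hom
  rw [← Scheme.Hom.smoothLocus_eq_top_iff, ← top_le_iff]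
  intro z _
  have hne : ((O.hom.smoothLocus : Set O.left)).Nonempty := by
    haveI : Nonempty O.left := ⟨z⟩
    exact O.hom.dense_smoothLocus_of_perfectField.nonempty
  obtain ⟨W, hW, hWi⟩ := i.left.isEmbedding.isInducing.isOpen_iff.1 O.hom.smoothLocus.2
  obtain ⟨g, hg⟩ := hO.le ⟨z, rfl⟩
  have hne' : ((a.orbitMap x).left ⁻¹' W).Nonempty := by
    obtain ⟨w, hw⟩ := hne
    obtain ⟨g', hg'⟩ := hO.le ⟨w, rfl⟩
    exact ⟨g', by rw [Set.mem_preimage, hg']; exact hWi.ge hw⟩
  obtain ⟨γ, hγ⟩ := exists_translate (f := a.orbitMap x) (a := mulAction G) (b := a) isTransitive_mul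
    (orbitMap_equivariant a x) hW hne' g
  rw [hg] at hγ
  have hstab : ∀ δ : 𝟙_ (Over (Spec (CommRingCat.of K))) ⟶ G,
      ∃ u : O.left ⟶ O.left, u ≫ i.left = i.left ≫ (tr a δ).left := by
    intro δ
    refine exists_lift_immersion _ i.left ?_
    rintro _ ⟨w, rfl⟩
    obtain ⟨g', hg'⟩ := hO.le ⟨w, rfl⟩
    refine hO.ge ⟨(tr (mulAction G) δ).left g', ?_⟩
    rw [apply_comp_left _ _ _ (tr_equivariant (orbitMap_equivariant a x) δ) g',
      ← apply_comp_left (a.orbitMap x) (tr a δ) _ rfl g', hg', Scheme.Hom.comp_apply]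
  obtain ⟨u, hu⟩ := hstab γ
  obtain ⟨v, hv⟩ := hstab γ⁻¹
  haveI : IsIso u := ⟨v, by
    rw [← cancel_mono i.left, Category.assoc, hv, reassoc_of% hu, ← Over.comp_left, tr_inv]
    simp, by
    rw [← cancel_mono i.left, Category.assoc, hu, reassoc_of% hv, ← Over.comp_left, inv_tr]
    simp⟩
  have huO : u ≫ O.hom = O.hom := by
    rw [← Over.w i, reassoc_of% hu, Over.w (tr a γ)]
  have h1 : u z ∈ O.hom.smoothLocus := by
    refine hWi.le ?_
    show i.left (u z) ∈ W
    rw [← Scheme.Hom.comp_apply, hu]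
    exact hγ
  have h2 : z ∈ u ⁻¹ᵁ O.hom.smoothLocus := h1
  rw [Scheme.Hom.preimage_smoothLocus_eq] at h2
  simp only [huO] at h2
  exact h2

end Groth.Agent.OrbitTop19
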