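import Groth.Agent.Lib.OrbitTop19.Closed
import Groth.Agent.Lib.FlatH4.FlatLocusScheme
import Groth.Agent.Lib.FlatH4.GenPt

/-!
# Equivariant morphisms to homogeneous spaces are faithfully flat
-/

set_option autoImplicit false
set_option linter.style.haveILetI false
set_option backward.isDefEq.respectTransparency.types false
universe u

open CategoryTheory CategoryTheory.Limits MonoidalCategory CartesianMonoidalCategory MonObj AlgebraicGeometry Topology

namespace Groth.Agent.OrbitTop19

theorem isField_stalk_of_isMaxPt {X : Scheme.{u}} [IsReduced X] {ζ : X} (hζ : FlatH4.IsMaxPt ζ) :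
    IsField (X.presheaf.stalk ζ) := by
  refine isField_stalk_of_closure_mem_irreducibleComponents X ζ ⟨isIrreducible_singleton.closure, fun Z hZ hle => ?_⟩
  have hξ : closure {hZ.genericPoint} = closure Z := hZ.isGenericPoint_genericPoint_closure
  have h1 : hZ.genericPoint ⤳ ζ := by
    rw [specializes_iff_mem_closure, hξ]
    exact subset_closure (hle (subset_closure rfl))
  rw [hζ _ h1] at hξ
  exact subset_closure.trans hξ.ge

/-- Generic flatness over a reduced base. -/
theorem exists_open_flat {X Y : Scheme.{u}} (f : X ⟶ Y) [IsReduced Y] [IsLocallyNoetherian Y] [CompactSpace Y] [Nonempty Y]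
    [QuasiSeparatedSpace Y] [QuasiCompact f] [LocallyOfFinitePresentation f] :
    ∃ W : Set Y, IsOpen W ∧ W.Nonempty ∧ ∀ x, f x ∈ W → (f.stalkMap x).hom.Flat := by
  obtain ⟨ζ, hζ, -⟩ := FlatH4.exists_isMaxPt_specializes (Classical.arbitrary Y)
  let L : X.Opens := ⟨_, FlatH4.isOpen_flatLocus f⟩
  have hfib : ζ ∉ f '' (L : Set X)ᶜ := by
    rintro ⟨x, hx, rfl⟩
    apply hx
    show (f.stalkMap x).hom.Flat
    letI : Field (Y.presheaf.stalk (f x)) := (isField_stalk_of_isMaxPt hζ).toField
    algebraize [(f.stalkMap x).hom]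
    exact (inferInstance : Module.Flat (Y.presheaf.stalk (f x)) (X.presheaf.stalk x))
  obtain ⟨W₀, hW₀, hζW₀, -⟩ := exists_isAffineOpen_mem_and_subset (X := Y) (x := ζ) (U := ⊤) trivial
  haveI : IsLocallyNoetherian X := LocallyOfFiniteType.isLocallyNoetherian f
  have hR : IsLocallyConstructible (f '' (L : Set X)ᶜ) :=
    haveI : CompactSpace X := QuasiCompact.compactSpace_of_compactSpace f
    haveI : IsNoetherian X := {}
    f.isLocallyConstructible_image
      ((IsRetrocompact.isConstructible L.2 (fun U _ _ => TopologicalSpace.NoetherianSpace.isCompact _)).compl.isLocallyConstructible)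
  have hC : IsConstructible (f '' (L : Set X)ᶜ ∩ W₀) := hR.inter_of_isOpen_isCompact W₀.2 hW₀.isCompact
  have hd : Dense (interior (f '' (L : Set X)ᶜ ∩ W₀) ∪ interior (f '' (L : Set X)ᶜ ∩ W₀)ᶜ) := by
    rw [dense_iff_inter_open]
    intro V hV hne
    obtain ⟨V', h1, ⟨z, hz⟩, h3, h4 | h4⟩ := GrpImage19.exists_open_subset_or_disjoint hC V hV hne
    · exact ⟨z, h3 hz, .inl (interior_maximal h4 h1 hz)⟩
    · exact ⟨z, h3 hz, .inr (interior_maximal h4 h1 hz)⟩
  rcases hζ.mem_of_dense (isOpen_interior.union isOpen_interior) hd with h | h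
  · exact absurd (interior_subset h).1 hfib
  refine ⟨interior (f '' (L : Set X)ᶜ ∩ W₀)ᶜ ∩ W₀, isOpen_interior.inter W₀.2, ⟨ζ, h, hζW₀⟩,
    fun x hx => ?_⟩
  by_contra hn
  exact interior_subset hx.1 ⟨⟨x, hn, rfl⟩, hx.2⟩

theorem flat_stalkMap_transfer {X Y X' Y' : Scheme.{u}} (f : X ⟶ Y) (g : X' ⟶ Y') (u : X ⟶ X') (v : Y ⟶ Y')
    [IsIso u] [IsIso v] (h : f ≫ v = u ≫ g) (x : X) (hg : (g.stalkMap (u x)).hom.Flat) :
    (f.stalkMap x).hom.Flat := by
  have e : f = (u ≫ g) ≫ inv v := by simp [← h]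
  subst e
  rw [Scheme.Hom.stalkMap_comp, Scheme.Hom.stalkMap_comp]
  exact RingHom.Flat.comp (Flat.stalkMap (inv v) _) (RingHom.Flat.comp hg (Flat.stalkMap u x))

variable {K : Type u} [Field K] [IsAlgClosed K] {G X Y : Over (Spec (CommRingCat.of K))} [GrpObj G]
  {a : AlgGrp.Action G X} {b : AlgGrp.Action G Y} {f : X ⟶ Y}
  [LocallyOfFiniteType X.hom] [LocallyOfFiniteType Y.hom]

/-- An equivariant morphism to a homogeneous space, flat over a nonempty open, is flat and surjective. -/
theorem flat_surjective [QuasiCompact f.left] [Nonempty X.left] (htr : IsTransitive b)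
    (hf : (G ◁ f) ≫ b.act = a.act ≫ f) {W : Set Y.left} (hW : IsOpen W) (hne : W.Nonempty)
    (hflat : ∀ x, f.left x ∈ W → (f.left.stalkMap x).hom.Flat) : Flat f.left ∧ Surjective f.left := by
  haveI : IsLocallyNoetherian Y.left := LocallyOfFiniteType.isLocallyNoetherian Y.hom
  haveI : LocallyOfFiniteType (f.left ≫ Y.hom) := by rw [Over.w f]; infer_instance
  haveI : LocallyOfFiniteType f.left := locallyOfFiniteType_of_comp _ Y.hom
  haveI := VarDim.locallyOfFinitePresentation_of_locallyNoetherian f.left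
  haveI : Nonempty Y.left := ⟨f.left (Classical.arbitrary X.left)⟩
  have hid : (G ◁ 𝟙 Y) ≫ b.act = b.act ≫ 𝟙 Y := by simp
  have hcov : ∀ W : Set Y.left, IsOpen W → W.Nonempty → ∀ y : Y.left, ∃ γ, (tr b γ).left y ∈ W :=
    fun W hW hne y => exists_translate (f := 𝟙 Y) (a := b) (b := b) htr hid hW (by simpa using hne) y
  haveI hdom : IsDominant f.left := by
    refine ⟨dense_iff_inter_open.2 fun W hW hne => ?_⟩
    obtain ⟨γ, hγ⟩ := hcov W hW hne (f.left (Classical.arbitrary X.left))
    exact ⟨_, hγ, (tr a γ).left (Classical.arbitrary X.left),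
      ((apply_comp_left f (tr b γ) _ (tr_equivariant hf γ).symm _).trans
        (apply_comp_left (tr a γ) f _ rfl _).symm).symm⟩
  refine ⟨?_, ⟨fun y => ?_⟩⟩
  · refine (Flat.iff_flat_stalkMap _).2 fun x => ?_
    obtain ⟨γ, hγ⟩ := hcov W hW hne (f.left x)
    haveI : IsIso (tr b γ).left := inferInstanceAs (IsIso ((Over.forget _).map (trIso b γ).hom))
    haveI : IsIso (tr a γ).left := inferInstanceAs (IsIso ((Over.forget _).map (trIso a γ).hom))
    refine flat_stalkMap_transfer f.left f.left (tr a γ).left (tr b γ).left ?_ x (hflat _ ?_)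
    · rw [← Over.comp_left, ← Over.comp_left, tr_equivariant hf]
    · rw [apply_comp_left (tr a γ) f _ (tr_equivariant hf γ) x]
      exact hγ
  · haveI : QuasiSeparatedSpace Y.left := inferInstance
    obtain ⟨γ, hγ⟩ := hcov _ isOpen_interior (GrpImage19.dense_interior_range f.left).nonempty y
    obtain ⟨x, hx⟩ := interior_subset hγ
    refine ⟨(tr a γ⁻¹).left x, ?_⟩
    rw [apply_comp_left (tr a γ⁻¹) f _ (tr_equivariant hf γ⁻¹) x, ← apply_comp_left f (tr b γ⁻¹) _ rfl x, hx,
      apply_comp_left (tr b γ) (tr b γ⁻¹) _ (tr_inv b γ) y]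
    rfl

end Groth.Agent.OrbitTop19
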