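import Groth.Agent.Lib.OrbitTop19.Base
import Groth.Agent.Lib.GrpImage19.Basic
import Mathlib.AlgebraicGeometry.AlgClosed.Basic

/-!
# Orbits over an algebraically closed field
-/

set_option autoImplicit false
set_option linter.style.haveILetI false
set_option backward.isDefEq.respectTransparency.types false
universe u

open CategoryTheory CategoryTheory.Limits MonoidalCategory CartesianMonoidalCategory MonObj AlgebraicGeometry Topology

namespace Groth.Agent.OrbitTop19

variable {K : Type u} [Field K] [IsAlgClosed K] {G X Y : Over (Spec (CommRingCat.of K))} [GrpObj G]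
  {a : AlgGrp.Action G X} {b : AlgGrp.Action G Y} {f : X ⟶ Y}

/-- Transitivity on rational points. -/
def IsTransitive (a : AlgGrp.Action G X) : Prop :=
  ∀ p q : 𝟙_ (Over (Spec (CommRingCat.of K))) ⟶ X, ∃ γ, p ≫ tr a γ = q

omit [IsAlgClosed K] in
theorem isTransitive_mul : IsTransitive (mulAction G) := fun p q => ⟨q * p⁻¹, by
  rw [comp_tr, Subsingleton.elim (toUnit _) (𝟙 (𝟙_ (Over (Spec (CommRingCat.of K))))), Category.id_comp]
  show lift (q * p⁻¹) p ≫ μ[G] = q
  rw [← Hom.mul_def, inv_mul_cancel_right]⟩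

omit [IsAlgClosed K] [GrpObj G] in
theorem apply_comp_left {A B C : Over (Spec (CommRingCat.of K))} (u : A ⟶ B) (v : B ⟶ C) (w : A ⟶ C)
    (h : u ≫ v = w) (x : A.left) : v.left (u.left x) = w.left x := by
  subst h; rfl

omit [GrpObj G] in
/-- Closed points are rational. -/
theorem exists_point (X : Over (Spec (CommRingCat.of K))) [LocallyOfFiniteType X.hom] (x : X.left)
    (hx : IsClosed {x}) :
    ∃ p : 𝟙_ (Over (Spec (CommRingCat.of K))) ⟶ X, p.left (IsLocalRing.closedPoint K) = x :=
  ⟨Over.homMk (pointOfClosedPoint X.hom x hx) (pointOfClosedPoint_comp _ _ _),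
    pointOfClosedPoint_apply X.hom x hx _⟩

variable [LocallyOfFiniteType X.hom] [LocallyOfFiniteType Y.hom]

omit [LocallyOfFiniteType Y.hom] in
theorem exists_translate (htr : IsTransitive a) (hf : (G ◁ f) ≫ b.act = a.act ≫ f) {W : Set Y.left}
    (hW : IsOpen W) (hne : (f.left ⁻¹' W).Nonempty) (x : X.left) :
    ∃ γ, (tr b γ).left (f.left x) ∈ W := by
  haveI : JacobsonSpace X.left := LocallyOfFiniteType.jacobsonSpace (Y := Spec _) X.hom
  by_contra hx
  let C : Set X.left := {x | ∀ γ, (tr b γ).left (f.left x) ∉ W}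
  have hC : IsClosed C := by
    have : C = ⋂ γ, (fun x => (tr b γ).left (f.left x)) ⁻¹' Wᶜ := by
      ext x; simp [C]
    rw [this]
    exact isClosed_iInter fun γ => hW.isClosed_compl.preimage
      ((tr b γ).left.continuous.comp f.left.continuous)
  have hxC : x ∈ C := not_exists.1 hx
  obtain ⟨x₁, hx₁, hx₁c⟩ := nonempty_inter_closedPoints ⟨x, hxC⟩ hC.isLocallyClosed
  obtain ⟨x₂, hx₂, hx₂c⟩ :=
    nonempty_inter_closedPoints hne (hW.preimage f.left.continuous).isLocallyClosed
  obtain ⟨p, hp⟩ := exists_point X x₁ hx₁c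
  obtain ⟨q, hq⟩ := exists_point X x₂ hx₂c
  obtain ⟨γ, hγ⟩ := htr p q
  refine hx₁ γ ?_
  have e1 : (tr a γ).left (p.left (IsLocalRing.closedPoint K)) = q.left (IsLocalRing.closedPoint K) :=
    apply_comp_left p (tr a γ) q hγ _
  rw [hp, hq] at e1
  have e2 := apply_comp_left (tr a γ) f _ (tr_equivariant hf γ) x₁
  rw [e1] at e2
  have e3 := apply_comp_left f (tr b γ) _ rfl x₁
  rw [e3, ← e2]
  exact hx₂

/-- The image of an equivariant morphism from a homogeneous space is locally closed. -/
theorem isLocallyClosed_range [QuasiCompact f.left] (htr : IsTransitive a)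
    (hf : (G ◁ f) ≫ b.act = a.act ≫ f) : IsLocallyClosed (Set.range f.left) := by
  rcases isEmpty_or_nonempty X.left with hX | hX
  · rw [Set.range_eq_empty]; exact isOpen_empty.isLocallyClosed
  haveI : IsLocallyNoetherian Y.left := LocallyOfFiniteType.isLocallyNoetherian Y.hom
  haveI : LocallyOfFiniteType (f.left ≫ Y.hom) := by rw [Over.w f]; infer_instance
  haveI : LocallyOfFiniteType f.left := locallyOfFiniteType_of_comp _ Y.hom
  let i := f.left.imageι
  have hfg : ∀ x, i (f.left.toImage x) = f.left x := fun x => by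
    rw [← Scheme.Hom.comp_apply, Scheme.Hom.toImage_imageι]
  let g := f.left.toImage
  have hgi : g ≫ i = f.left := f.left.toImage_imageι
  haveI : LocallyOfFiniteType (g ≫ i) := by rw [hgi]; infer_instance
  haveI : LocallyOfFiniteType g := locallyOfFiniteType_of_comp g i
  haveI : IsLocallyNoetherian f.left.image := LocallyOfFiniteType.isLocallyNoetherian i
  haveI := VarDim.locallyOfFinitePresentation_of_locallyNoetherian g
  have hd := GrpImage19.dense_interior_range g
  obtain ⟨x₀⟩ := hX
  haveI : Nonempty f.left.image := ⟨g x₀⟩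
  obtain ⟨z₀, hz₀⟩ := hd.nonempty
  obtain ⟨W, hW, hWi⟩ := i.isClosedEmbedding.isInducing.isOpen_iff.1 (isOpen_interior (s := Set.range g))
  have hcl : Set.range i = closure (Set.range f.left) := by
    have : Set.range f.left = i '' Set.range g := by
      rw [← Set.range_comp]; exact congrArg Set.range (funext fun x => (hfg x).symm)
    rw [this, i.isClosedEmbedding.closure_image_eq, g.denseRange.closure_range, Set.image_univ]
  have hWS : W ∩ closure (Set.range f.left) ⊆ Set.range f.left := by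
    rintro _ ⟨hw, hy⟩
    obtain ⟨z, rfl⟩ := hcl.ge hy
    obtain ⟨x, rfl⟩ := interior_subset (hWi.le hw)
    exact ⟨x, (hfg x).symm⟩
  have hne : (f.left ⁻¹' W).Nonempty := by
    obtain ⟨x, rfl⟩ := interior_subset hz₀
    have hx : g x ∈ i ⁻¹' W := hWi.ge hz₀
    exact ⟨x, by rw [Set.mem_preimage, ← hfg]; exact hx⟩
  have hstab : ∀ (γ : 𝟙_ _ ⟶ G) (y : Y.left), y ∈ Set.range f.left → (tr b γ).left y ∈ Set.range f.left := by
    rintro γ _ ⟨x, rfl⟩
    exact ⟨(tr a γ).left x, congrArg (fun m : X ⟶ Y => m.left x) (tr_equivariant hf γ)⟩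
  refine ⟨⋃ γ, (tr b γ).left ⁻¹' W, closure (Set.range f.left),
    isOpen_iUnion fun γ => hW.preimage (tr b γ).left.continuous, isClosed_closure,
    Set.Subset.antisymm (fun y hy => ⟨?_, subset_closure hy⟩) ?_⟩
  · obtain ⟨x, rfl⟩ := hy
    exact Set.mem_iUnion.2 (exists_translate htr hf hW hne x)
  · rintro y ⟨hy, hyc⟩
    obtain ⟨γ, hγ⟩ := Set.mem_iUnion.1 hy
    have h1 : (tr b γ).left y ∈ closure (Set.range f.left) :=
      map_mem_closure (tr b γ).left.continuous hyc (fun z hz => hstab γ z hz)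
    have h2 := hstab γ⁻¹ _ (hWS ⟨hγ, h1⟩)
    rwa [show (tr b γ⁻¹).left ((tr b γ).left y) = y from
      congrArg (fun m : Y ⟶ Y => m.left y) (tr_inv b γ)] at h2

end Groth.Agent.OrbitTop19
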